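import Groth.Agent.SmoothLiftLib.Iff
import Groth.Agent.FEtHom.Affine
import Groth.Agent.ASp.EtLocal

/-!
# Fixed points of a finite group of invertible order on a smooth scheme
-/

set_option autoImplicit false
set_option backward.isDefEq.respectTransparency false
set_option linter.style.haveILetI false

universe u v

open CategoryTheory CategoryTheory.Limits AlgebraicGeometry TopologicalSpace Opposite

noncomputable section

namespace Groth.Agent.FixPtLib

/-- Averaging a lift: the average of congruent ring maps is a ring map. -/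
theorem exists_avg {A B : Type u} [CommRing A] [CommRing B] {G : Type v} [Group G] [Fintype G]
    (σ : G → (A →+* A)) (hσ : ∀ g h : G, (σ g).comp (σ h) = σ (h * g))
    (I : Ideal B) (hI : I ^ 2 = ⊥) (φ : A →+* B) (hφ : ∀ g x, φ (σ g x) - φ x ∈ I)
    (hn : IsUnit (Fintype.card G : B)) :
    ∃ ψ : A →+* B, (∀ g, ψ.comp (σ g) = ψ) ∧ (∀ x, ψ x - φ x ∈ I) ∧
      ∀ x, (∀ g, σ g x = x) → ψ x = φ x := by
  classical
  obtain ⟨c, hc⟩ := hn.exists_left_inv
  let d : G → A → B := fun g x => φ (σ g x) - φ x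
  let D : A → B := fun x => c * ∑ g, d g x
  have hD : ∀ x, D x ∈ I := fun x => I.mul_mem_left _ (I.sum_mem fun g _ => hφ g x)
  have hsq : ∀ {p q : B}, p ∈ I → q ∈ I → p * q = 0 := fun {p q} hp hq => by
    have h := Ideal.mul_mem_mul hp hq
    rwa [← pow_two, hI, Ideal.mem_bot] at h
  have hdmul : ∀ g x y, d g (x * y) = d g x * φ y + φ x * d g y := fun g x y => by
    have h := hsq (hφ g x) (hφ g y)
    simp only [d, map_mul]
    linear_combination h
  have hDmul : ∀ x y, D (x * y) = D x * φ y + φ x * D y := fun x y => by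
    simp only [D, hdmul, Finset.sum_add_distrib, ← Finset.sum_mul, ← Finset.mul_sum]
    ring
  have hDadd : ∀ x y, D (x + y) = D x + D y := fun x y => by
    simp only [D, d, map_add, ← mul_add, ← Finset.sum_add_distrib]
    congr 1
    exact Finset.sum_congr rfl fun g _ => by ring
  let ψ : A →+* B :=
    { toFun := fun x => φ x + D x
      map_one' := by simp [D, d]
      map_mul' := fun x y => by
        rw [hDmul, map_mul]
        linear_combination -(hsq (hD x) (hD y))
      map_zero' := by simp [D, d]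
      map_add' := fun x y => by rw [hDadd, map_add]; ring }
  have havg : ∀ x, ψ x = c * ∑ g, φ (σ g x) := fun x => by
    show φ x + c * ∑ g, (φ (σ g x) - φ x) = _
    rw [Finset.sum_sub_distrib, Finset.sum_const, Finset.card_univ, nsmul_eq_mul]
    linear_combination (-φ x) * hc
  refine ⟨ψ, fun h => RingHom.ext fun x => ?_, fun x => by simpa [ψ] using hD x, fun x hx => by simp [ψ, D, d, hx]⟩
  show ψ (σ h x) = ψ x
  rw [havg, havg]
  congr 1
  refine Fintype.sum_equiv (Equiv.mulLeft h) _ _ fun g => ?_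
  show φ ((σ g).comp (σ h) x) = φ (σ (h * g) x)
  rw [hσ]

variable {S : Scheme.{u}} {X : Over S} {G : Type v} [Group G] (ρ : G →* Aut X)

/-- The simultaneous equalizer as a closed subscheme. -/
theorem exists_fixed [Smooth X.hom] [IsSeparated X.hom] (s : Finset G) :
    ∃ (W : Over S) (w : W ⟶ X), IsClosedImmersion w.left ∧ LocallyOfFinitePresentation w.left ∧
      ∀ (T : Over S) (t : T ⟶ X), (∀ g ∈ s, t ≫ (ρ g).hom = t) ↔ ∃ t' : T ⟶ W, t' ≫ w = t := by
  classical
  induction s using Finset.induction_on with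
  | empty =>
    refine ⟨X, 𝟙 X, ?_, ?_, fun T t => ?_⟩
    · exact inferInstanceAs (IsClosedImmersion (𝟙 X.left))
    · exact inferInstanceAs (LocallyOfFinitePresentation (𝟙 X.left))
    · exact ⟨fun _ => ⟨t, Category.comp_id t⟩, fun _ g hg => absurd hg (Finset.notMem_empty g)⟩
  | @insert g s _ IH =>
    obtain ⟨W, w, hwc, hwp, hw⟩ := IH
    haveI := hwc
    haveI := hwp
    let a : W.left ⟶ pullback X.hom X.hom :=
      pullback.lift w.left (w.left ≫ (ρ g).hom.left) (by rw [Category.assoc, Over.w (ρ g).hom])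
    let e := pullback.fst a (pullback.diagonal X.hom)
    let E : Over S := Over.mk (e ≫ W.hom)
    let eo : E ⟶ W := Over.homMk e rfl
    haveI : IsClosedImmersion e := MorphismProperty.pullback_fst _ _ inferInstance
    haveI : LocallyOfFinitePresentation (pullback.diagonal X.hom) := by
      refine ASp.locallyOfFinitePresentation_of_comp _ (pullback.fst X.hom X.hom) ?_ inferInstance
      rw [pullback.diagonal_fst]
      infer_instance
    haveI : LocallyOfFinitePresentation e := MorphismProperty.pullback_fst _ _ inferInstance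
    refine ⟨E, eo ≫ w, inferInstanceAs (IsClosedImmersion (e ≫ w.left)),
      inferInstanceAs (LocallyOfFinitePresentation (e ≫ w.left)), fun T t => ?_⟩
    constructor
    · intro h
      obtain ⟨t₁, ht₁⟩ := (hw T t).1 fun g' hg' => h g' (Finset.mem_insert_of_mem hg')
      have hg := congrArg CommaMorphism.left (h g (Finset.mem_insert_self g s))
      rw [← ht₁] at hg
      let l := pullback.lift (f := a) (g := pullback.diagonal X.hom) t₁.left (t₁.left ≫ w.left) (by
        refine pullback.hom_ext ?_ ?_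
        · simp [a]
        · simp [a]
          simpa using hg)
      refine ⟨Over.homMk l (by show l ≫ e ≫ W.hom = T.hom; rw [← Category.assoc, pullback.lift_fst, Over.w t₁]), ?_⟩
      rw [← ht₁, ← Category.assoc]
      congr 1
      exact Over.OverMorphism.ext (pullback.lift_fst _ _ _)
    · rintro ⟨t', rfl⟩ g' hg'
      rcases Finset.mem_insert.1 hg' with rfl | hg'
      · have hc := pullback.condition (f := a) (g := pullback.diagonal X.hom)
        have h1 : e ≫ w.left = pullback.snd a (pullback.diagonal X.hom) := by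
          have := congrArg (· ≫ pullback.fst X.hom X.hom) hc
          simpa [a] using this
        have h2 : e ≫ w.left ≫ (ρ g').hom.left = pullback.snd a (pullback.diagonal X.hom) := by
          have := congrArg (· ≫ pullback.snd X.hom X.hom) hc
          simpa [a] using this
        ext1
        simp only [Over.comp_left, Category.assoc]
        exact congrArg (t'.left ≫ ·) (h2.trans h1.symm)
      · exact (hw T _).2 ⟨t' ≫ eo, Category.assoc _ _ _⟩ g' hg'

theorem aut_comp (g h : G) : (ρ g).hom ≫ (ρ h).hom = (ρ (h * g)).hom := by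
  rw [map_mul]; rfl

/-- Around a point, a stable affine open over an affine open of the base. -/
theorem exists_stable_affine [IsSeparated X.hom] [Finite G] (x : X.left) (hx : ∀ g, (ρ g).hom.left x = x) :
    ∃ (V : S.Opens) (U : X.left.Opens), IsAffineOpen V ∧ IsAffineOpen U ∧ x ∈ U ∧ U ≤ X.hom ⁻¹ᵁ V ∧
      ∀ g, U ≤ (ρ g).hom.left ⁻¹ᵁ U := by
  classical
  haveI : Fintype G := Fintype.ofFinite G
  obtain ⟨_, ⟨V, hV, rfl⟩, hxV, -⟩ := S.isBasis_affineOpens.exists_subset_of_mem_open
    (Set.mem_univ (X.hom x)) isOpen_univ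
  obtain ⟨_, ⟨U₀, hU₀, rfl⟩, hxU₀, hU₀V⟩ := X.left.isBasis_affineOpens.exists_subset_of_mem_open
    (show x ∈ X.hom ⁻¹ᵁ V from hxV) (X.hom ⁻¹ᵁ V).isOpen
  have hinf := isAffineHom_diagonal_iff.1 (inferInstance : IsAffineHom (pullback.diagonal X.hom)) V hV
  let Ug : G → X.left.Opens := fun g => (ρ g).hom.left ⁻¹ᵁ U₀
  have hUg : ∀ g, Ug g ≤ X.hom ⁻¹ᵁ V ∧ IsAffineOpen (Ug g) := fun g => by
    refine ⟨?_, ?_⟩
    · intro y hy
      have := hU₀V hy
      show X.hom y ∈ V
      rw [← Over.w (ρ g).hom]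
      exact this
    · haveI : IsIso (ρ g).hom.left := ((Over.forget S).mapIso (ρ g)).isIso_hom
      exact hU₀.preimage_of_isIso _
  have hfin : ∀ s : Finset G, s.Nonempty → (s.inf Ug ≤ X.hom ⁻¹ᵁ V ∧ IsAffineOpen (s.inf Ug)) := by
    intro s hs
    induction hs using Finset.Nonempty.cons_induction with
    | singleton a => simpa using hUg a
    | cons a s ha _ ih =>
      rw [Finset.inf_cons]
      exact ⟨inf_le_left.trans (hUg a).1, hinf _ (hUg a).1 _ ih.1 (hUg a).2 ih.2⟩
  obtain ⟨hle, haff⟩ := hfin Finset.univ ⟨1, Finset.mem_univ 1⟩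
  refine ⟨V, Finset.univ.inf Ug, hV, haff, ?_, hle, fun g y hy => ?_⟩
  · have : ∀ g, x ∈ Ug g := fun g => by
      show (ρ g).hom.left x ∈ U₀
      rw [hx g]; exact hxU₀
    rw [← SetLike.mem_coe, Opens.coe_finset_inf, Finset.inf_set_eq_iInter]
    simpa using this
  · have hy' : ∀ g', y ∈ Ug g' := fun g' => (Finset.inf_le (Finset.mem_univ g') : _ ≤ Ug g') hy
    show (ρ g).hom.left y ∈ Finset.univ.inf Ug
    rw [← SetLike.mem_coe, Opens.coe_finset_inf, Finset.inf_set_eq_iInter]
    simp only [Finset.mem_univ, Set.mem_iInter]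
    intro g' _
    have h := hy' (g' * g)
    change (ρ (g' * g)).hom.left y ∈ U₀ at h
    rw [← aut_comp] at h
    simpa [Ug] using h

theorem smooth_fixed [Smooth X.hom] [IsSeparated X.hom] [Finite G] (hG : IsUnit (Nat.card G : Γ(S, ⊤)))
    {Z : Over S} (ι : Z ⟶ X) [IsClosedImmersion ι.left] (hι : ∀ g, ι ≫ (ρ g).hom = ι)
    (hfp : LocallyOfFinitePresentation Z.hom)
    (hZ : ∀ (T : Over S) (t : T ⟶ X), (∀ g, t ≫ (ρ g).hom = t) → ∃ t' : T ⟶ Z, t' ≫ ι = t) : Smooth Z.hom := by
  classical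
  haveI : Fintype G := Fintype.ofFinite G
  choose V U hV hU hxU hUV hst using fun z : Z.left => exists_stable_affine ρ (ι.left z) fun g => by
    rw [← Scheme.Hom.comp_apply, ← Over.comp_left, hι]
  refine (IsZariskiLocalAtSource.iff_of_iSup_eq_top (P := @Smooth) (fun z => ι.left ⁻¹ᵁ U z)
    (eq_top_iff.2 fun z _ => Opens.mem_iSup.2 ⟨z, hxU z⟩)).2 fun z => ?_
  refine (SmoothLiftLib.smooth_iff _).2 ⟨inferInstance, fun B _ I hI a b w => ?_⟩
  let π := Spec.map (CommRingCat.ofHom (Ideal.Quotient.mk I))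
  let a' := a ≫ (ι.left ⁻¹ᵁ U z).ι ≫ ι.left
  have ha' : ∀ p, a' p ∈ U z := fun p => (a p).2
  obtain ⟨l, hl₁, hl₂⟩ := ((SmoothLiftLib.smooth_iff X.hom).1 inferInstance).2 B I hI a' b (by
    rw [w]
    simp only [a', Category.assoc, Over.w ι])
  have hlU : Set.range l ⊆ Set.range (hU z).fromSpec := by
    rw [IsAffineOpen.range_fromSpec]
    rintro _ ⟨p, rfl⟩
    obtain ⟨q, rfl⟩ := FEtHom.surjective_quotient B I hI p
    rw [← Scheme.Hom.comp_apply, hl₁]
    exact ha' q
  obtain ⟨φ, hφ⟩ := Spec.map_surjective (IsOpenImmersion.lift (hU z).fromSpec l hlU)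
  have hlφ : l = Spec.map φ ≫ (hU z).fromSpec := by rw [hφ, IsOpenImmersion.lift_fac]
  let σ : G → (Γ(X.left, U z) ⟶ Γ(X.left, U z)) := fun g => (ρ g).hom.left.appLE (U z) (U z) (hst z g)
  have hσfix : ∀ g, Spec.map (σ g) ≫ (hU z).fromSpec = (hU z).fromSpec ≫ (ρ g).hom.left :=
    fun g => IsAffineOpen.SpecMap_appLE_fromSpec _ (hU z) (hU z) (hst z g)
  have hσ : ∀ g h, σ h ≫ σ g = σ (h * g) := fun g h => by
    refine Spec.map_injective ?_
    rw [← cancel_mono (hU z).fromSpec, Spec.map_comp, Category.assoc, hσfix, ← Category.assoc, hσfix,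
      Category.assoc, hσfix, ← Over.comp_left, aut_comp]
  have hR : ∀ g, X.hom.appLE (V z) (U z) (hUV z) ≫ σ g = X.hom.appLE (V z) (U z) (hUV z) := fun g => by
    refine Spec.map_injective ?_
    rw [← cancel_mono (hV z).fromSpec, Spec.map_comp, Category.assoc, IsAffineOpen.SpecMap_appLE_fromSpec _ (hV z) (hU z) (hUV z),
      ← Category.assoc, hσfix, Category.assoc, Over.w (ρ g).hom]
  have hφ' : Spec.map (φ ≫ CommRingCat.ofHom (Ideal.Quotient.mk I)) ≫ (hU z).fromSpec = a' := by
    rw [Spec.map_comp, Category.assoc]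
    exact ((congrArg (π ≫ ·) hlφ).symm).trans hl₁
  have hfix : ∀ g, a' ≫ (ρ g).hom.left = a' := fun g => by
    have h : ι.left ≫ (ρ g).hom.left = ι.left := congrArg CommaMorphism.left (hι g)
    simp only [a', Category.assoc, h]
  have hmod : ∀ g x, φ.hom ((σ g).hom x) - φ.hom x ∈ I := fun g => by
    have h : Spec.map (σ g ≫ φ ≫ CommRingCat.ofHom (Ideal.Quotient.mk I)) =
        Spec.map (φ ≫ CommRingCat.ofHom (Ideal.Quotient.mk I)) := by
      refine (cancel_mono (hU z).fromSpec).1 ?_
      rw [Spec.map_comp (σ g), Category.assoc, hσfix]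
      exact ((Category.assoc _ _ _).symm.trans ((congrArg (· ≫ (ρ g).hom.left) hφ').trans (hfix g))).trans hφ'.symm
    exact fun x => Ideal.Quotient.eq.1 congr($(Spec.map_injective h).hom x)
  have hn : IsUnit (Fintype.card G : B) := by
    have h := (hG.map b.appTop.hom).map (Scheme.ΓSpecIso (CommRingCat.of B)).hom.hom
    rwa [map_natCast, map_natCast, Nat.card_eq_fintype_card] at h
  obtain ⟨ψ, hψ, hψI, hψfix⟩ := exists_avg (fun g => (σ g).hom)
    (fun g h => congrArg CommRingCat.Hom.hom (hσ g h)) I hI φ.hom hmod hn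
  let t : Over.mk b ⟶ X := Over.homMk (Spec.map (CommRingCat.ofHom ψ) ≫ (hU z).fromSpec) (by
    have h : X.hom.appLE (V z) (U z) (hUV z) ≫ CommRingCat.ofHom ψ = X.hom.appLE (V z) (U z) (hUV z) ≫ φ :=
      CommRingCat.hom_ext (RingHom.ext fun r => hψfix _ fun g => congr($(hR g).hom r))
    show (_ ≫ (hU z).fromSpec) ≫ X.hom = b
    rw [← hl₂, hlφ, Category.assoc, Category.assoc, ← IsAffineOpen.SpecMap_appLE_fromSpec _ (hV z) (hU z) (hUV z),
      ← Spec.map_comp_assoc, ← Spec.map_comp_assoc, h])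
  have ht : ∀ g, t ≫ (ρ g).hom = t := fun g => by
    refine Over.OverMorphism.ext ?_
    show (Spec.map (CommRingCat.ofHom ψ) ≫ (hU z).fromSpec) ≫ (ρ g).hom.left =
      Spec.map (CommRingCat.ofHom ψ) ≫ (hU z).fromSpec
    rw [Category.assoc, ← hσfix, ← Spec.map_comp_assoc]
    congr 2
    exact CommRingCat.hom_ext (hψ g)
  obtain ⟨t', ht'⟩ := hZ _ t ht
  have hrange : Set.range t'.left ⊆ Set.range (ι.left ⁻¹ᵁ U z).ι := by
    rintro _ ⟨p, rfl⟩
    rw [Scheme.Opens.range_ι]
    show ι.left (t'.left p) ∈ (U z : Set X.left)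
    rw [← Scheme.Hom.comp_apply, ← Over.comp_left, ht', ← IsAffineOpen.range_fromSpec (hU z)]
    exact ⟨_, rfl⟩
  refine ⟨IsOpenImmersion.lift (ι.left ⁻¹ᵁ U z).ι t'.left hrange, ?_, ?_⟩
  · rw [← cancel_mono (ι.left ⁻¹ᵁ U z).ι, Category.assoc, IsOpenImmersion.lift_fac, ← cancel_mono ι.left,
      Category.assoc, ← Over.comp_left, ht']
    show π ≫ Spec.map (CommRingCat.ofHom ψ) ≫ (hU z).fromSpec = _
    rw [← Spec.map_comp_assoc]
    have : CommRingCat.ofHom ψ ≫ CommRingCat.ofHom (Ideal.Quotient.mk I) = φ ≫ CommRingCat.ofHom (Ideal.Quotient.mk I) :=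
      CommRingCat.hom_ext (RingHom.ext fun x => Ideal.Quotient.eq.2 (hψI x))
    rw [this, Spec.map_comp_assoc, ← hlφ, hl₁]
    simp [a']
  · rw [IsOpenImmersion.lift_fac_assoc, Over.w t']
    rfl

end Groth.Agent.FixPtLib
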